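import Groth.Agent.S2344
import Groth.Agent.S2351
import Groth.Agent.S4455
import Groth.Agent.Lib.CurveMult.LurothCurve
import Groth.Agent.Lib.NormFib.Birational
import Groth.Agent.Lib.Japanese.Curve
import Groth.Agent.Lib.DimFin29.Basic
import Groth.Agent.Lib.AlgSp.Dim

/-!
# Rational curves and images of the projective line
-/

set_option autoImplicit false
set_option backward.isDefEq.respectTransparency false
set_option linter.style.haveILetI false
set_option maxHeartbeats 1000000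

universe u

open CategoryTheory CategoryTheory.Limits AlgebraicGeometry TopologicalSpace

noncomputable section

namespace GrothLib.RatCurve12

theorem dense_of_nonempty {X : Scheme.{u}} [IrreducibleSpace X] (U : X.Opens) (h : (U : Set X).Nonempty) :
    Dense (U : Set X) := U.2.dense h

/-- A dominant morphism does not change the kernel of what follows it. -/
theorem ker_comp_of_dominant {W C P : Scheme.{u}} [IsReduced C] (g : W ⟶ C) [QuasiCompact g] [IsDominant g]
    (i : C ⟶ P) [QuasiCompact i] : (g ≫ i).ker = i.ker := by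
  refine le_antisymm (fun U a ha => ?_) (g.le_ker_comp i)
  rw [Scheme.Hom.ker_apply, RingHom.mem_ker] at ha ⊢
  rw [Scheme.Hom.comp_app] at ha
  have hb : C.basicOpen (i.app U.1 a) = ⊥ := by
    by_contra hne
    obtain ⟨x, hx⟩ : ((C.basicOpen (i.app U.1 a)) : Set C).Nonempty := by
      rw [Set.nonempty_iff_ne_empty]
      exact fun h => hne (Opens.ext h)
    obtain ⟨w, hw⟩ := g.denseRange.exists_mem_open (C.basicOpen (i.app U.1 a)).2 ⟨x, hx⟩
    have hw' : w ∈ g ⁻¹ᵁ C.basicOpen (i.app U.1 a) := hw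
    rw [Scheme.preimage_basicOpen] at hw'
    have : (g.app (i ⁻¹ᵁ U.1)).hom (i.app U.1 a) = 0 := ha
    rw [this, Scheme.basicOpen_zero] at hw'
    exact hw'
  exact (AlgebraicGeometry.basicOpen_eq_bot_iff _).1 hb

variable {k : Type u} [Field k] {C : Scheme.{u}} [C.Over (Spec (CommRingCat.of k))] [IsIntegral C]
  [IsProper (C ↘ Spec (CommRingCat.of k))]

theorem curve_p1 (k : Type u) [Field k] :
    IsIntegral (CohB1.ProjSpace 1 k) ∧ topologicalKrullDim (CohB1.ProjSpace 1 k) = 1 ∧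
      Pi1.IsNormalScheme (CohB1.ProjSpace 1 k) ∧
      ∀ x : CohB1.ProjSpace 1 k, IsClosed ({x} : Set (CohB1.ProjSpace 1 k)) →
        ringKrullDim ((CohB1.ProjSpace 1 k).presheaf.stalk x) = 1 := by
  haveI : IsIntegral (CohB1.ProjSpace 1 k) := ProjDim.isIntegral_proj k 1
  have hd : topologicalKrullDim (CohB1.ProjSpace 1 k) = 1 := by exact_mod_cast Groth.Agent.S10829.result k 1
  haveI := Chow.isProper_toSpec 1 k
  haveI : IsLocallyNoetherian (CohB1.ProjSpace 1 k) :=
    LocallyOfFiniteType.isLocallyNoetherian (CohB1.ProjSpace.toSpec 1 k)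
  haveI : Smooth (CohB1.ProjSpace.toSpec 1 k) := CurveMult.smooth_toSpec 1 k
  haveI hR : CurveRR.RegCurve (CohB1.ProjSpace 1 k) := CurveRR.regCurve_of_smooth (CohB1.ProjSpace.toSpec 1 k) hd
  refine ⟨inferInstance, hd, fun x => ?_, fun x hx => ?_⟩
  · by_cases h : x = genericPoint (CohB1.ProjSpace 1 k)
    · subst h
      letI := (CurvePoints.isField_stalk_genericPoint (X := CohB1.ProjSpace 1 k)).toField
      exact ⟨inferInstance, inferInstance⟩
    · haveI := hR.2 x h
      exact ⟨inferInstance, inferInstance⟩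
  · refine CurvePoints.ringKrullDim_stalk hd.le fun h => ?_
    have hu : ({x} : Set (CohB1.ProjSpace 1 k)) = Set.univ := by
      rw [← hx.closure_eq, h]
      exact genericPoint_spec _
    haveI : Subsingleton (CohB1.ProjSpace 1 k) := ⟨fun a b => by
      have ha : a ∈ ({x} : Set (CohB1.ProjSpace 1 k)) := hu ▸ trivial
      have hb : b ∈ ({x} : Set (CohB1.ProjSpace 1 k)) := hu ▸ trivial
      rw [Set.mem_singleton_iff.1 ha, Set.mem_singleton_iff.1 hb]⟩
    have := topologicalKrullDim_zero_of_discreteTopology (CohB1.ProjSpace 1 k)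
    rw [hd] at this
    exact absurd this (by simp)

/-- A curve birational to the line is dominated by it. -/
theorem exists_dominant_of_rational (U : C.Opens) (V : (CohB1.ProjSpace 1 k).Opens)
    (e : (↑U : Scheme.{u}) ≅ ↑V) (hne : Nonempty U)
    (he : e.hom ≫ V.ι ≫ CohB1.ProjSpace.toSpec 1 k = U.ι ≫ (C ↘ Spec (CommRingCat.of k))) :
    ∃ g : CohB1.ProjSpace 1 k ⟶ C, IsDominant g ∧ g ≫ (C ↘ Spec (CommRingCat.of k)) = CohB1.ProjSpace.toSpec 1 k := by
  obtain ⟨hint, hd, hN, hcurve⟩ := curve_p1 k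
  letI : (CohB1.ProjSpace 1 k).Over (Spec (CommRingCat.of k)) := ⟨CohB1.ProjSpace.toSpec 1 k⟩
  haveI := Chow.isProper_toSpec 1 k
  haveI : IsProper (CohB1.ProjSpace 1 k ↘ Spec (CommRingCat.of k)) := inferInstanceAs (IsProper (CohB1.ProjSpace.toSpec 1 k))
  obtain ⟨u⟩ := hne
  have hV : Dense (V : Set (CohB1.ProjSpace 1 k)) := dense_of_nonempty V ⟨_, (e.hom u).2⟩
  obtain ⟨g, ⟨hg, hgk⟩, -⟩ := Groth.Agent.S2344.result k (CohB1.ProjSpace 1 k) C hcurve hN V hV (e.inv ≫ U.ι)
    (by rw [Category.assoc, ← he, Iso.inv_hom_id_assoc]; rfl)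
  refine ⟨g, ⟨?_⟩, hgk⟩
  refine (dense_of_nonempty U ⟨_, u.2⟩).mono fun x hx => ?_
  refine ⟨V.ι (e.hom ⟨x, hx⟩), ?_⟩
  rw [← Scheme.Hom.comp_apply, ← Scheme.Hom.comp_apply, hg, Iso.hom_inv_id_assoc]
  rfl

/-- A curve dominated by the line is rational. -/
theorem exists_rational_of_dominant (hdim : topologicalKrullDim C = 1) (f : CohB1.ProjSpace 1 k ⟶ C) [IsDominant f]
    (hf : f ≫ (C ↘ Spec (CommRingCat.of k)) = CohB1.ProjSpace.toSpec 1 k) :
    ∃ (U : C.Opens) (V : (CohB1.ProjSpace 1 k).Opens) (e : (↑U : Scheme.{u}) ≅ ↑V),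
      Nonempty U ∧ e.hom ≫ V.ι ≫ CohB1.ProjSpace.toSpec 1 k = U.ι ≫ (C ↘ Spec (CommRingCat.of k)) := by
  obtain ⟨hint, hd, hNP, hcurve⟩ := curve_p1 k
  letI : (CohB1.ProjSpace 1 k).Over (Spec (CommRingCat.of k)) := ⟨CohB1.ProjSpace.toSpec 1 k⟩
  haveI := Chow.isProper_toSpec 1 k
  haveI : IsProper (CohB1.ProjSpace 1 k ↘ Spec (CommRingCat.of k)) := inferInstanceAs (IsProper (CohB1.ProjSpace.toSpec 1 k))
  haveI := Euler.isNoetherian_of_proper (X := C) k
  let ν := Curv2.normalizationι C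
  have hfin : IsFinite ν :=
    Japanese.isFinite_fromNormalization k (C ↘ Spec (CommRingCat.of k)) (RingHom.id C.functionField)
      (RingHom.Finite.id _) (C.fromSpecStalk (genericPoint C))
      (by rw [CommRingCat.ofHom_id, Spec.map_id]; exact (Category.id_comp _).symm)
  haveI := hfin
  obtain ⟨hNint, hN, hsurj, -⟩ := Groth.Agent.S2351.result C
  haveI := hNint
  haveI := hsurj
  obtain ⟨V0, hV0, hiso⟩ := NormFib.exists_isIso_of_finite hfin
  haveI := hiso
  letI : (Curv2.normalization C).Over (Spec (CommRingCat.of k)) := ⟨ν ≫ (C ↘ Spec (CommRingCat.of k))⟩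
  haveI hNp : IsProper (Curv2.normalization C ↘ Spec (CommRingCat.of k)) := by
    show IsProper (ν ≫ (C ↘ Spec (CommRingCat.of k)))
    infer_instance
  have hUne : ((f ⁻¹ᵁ V0) : Set (CohB1.ProjSpace 1 k)).Nonempty := f.denseRange.exists_mem_open V0.2 hV0
  obtain ⟨g, ⟨hg, hgk⟩, -⟩ := Groth.Agent.S2344.result k (CohB1.ProjSpace 1 k) (Curv2.normalization C) hcurve hNP
    (f ⁻¹ᵁ V0) (dense_of_nonempty _ hUne) ((f ∣_ V0) ≫ inv (ν ∣_ V0) ≫ (ν ⁻¹ᵁ V0).ι)
    (by
      show _ ≫ ν ≫ _ = _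
      rw [Category.assoc, Category.assoc, ← morphismRestrict_ι_assoc ν, IsIso.inv_hom_id_assoc,
        morphismRestrict_ι_assoc, hf]
      rfl)
  haveI : IsDominant (f ⁻¹ᵁ V0).ι := ⟨by rw [DenseRange, Scheme.Opens.range_ι]; exact dense_of_nonempty _ hUne⟩
  have hgν : g ≫ ν = f := by
    refine ext_of_isDominant_of_isSeparated (C ↘ Spec (CommRingCat.of k)) ?_ (f ⁻¹ᵁ V0).ι ?_
    · rw [Category.assoc, hf]; exact hgk
    · rw [← Category.assoc, hg, Category.assoc, Category.assoc, ← morphismRestrict_ι, IsIso.inv_hom_id_assoc,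
        morphismRestrict_ι]
  haveI : Nonempty (Curv2.normalization C) := inferInstance
  have hdimN : topologicalKrullDim (Curv2.normalization C) = 1 := le_antisymm
    (hdim ▸ AlgSp.topologicalKrullDim_le_of_isIntegralHom (f := ν))
    (hdim ▸ AlgSp.topologicalKrullDim_le_of_isIntegralHom_surjective (f := ν))
  have hnc : (Set.range g).Nontrivial := by
    by_contra hc
    rw [Set.not_nontrivial_iff] at hc
    have hsub : Subsingleton C := by
      have hfs : (Set.range f).Subsingleton := by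
        rw [← hgν, show ⇑(g ≫ ν) = ν ∘ g from rfl, Set.range_comp]
        exact hc.image _
      haveI : IsProper (f ≫ (C ↘ Spec (CommRingCat.of k))) := by rw [hf]; infer_instance
      haveI : IsProper f := IsProper.of_comp f (C ↘ Spec (CommRingCat.of k))
      have hu : Set.range f = Set.univ := by
        rw [← f.isClosedMap.isClosed_range.closure_eq]; exact f.denseRange.closure_range
      exact ⟨fun a b => hfs (hu ▸ trivial) (hu ▸ trivial)⟩
    have := topologicalKrullDim_zero_of_discreteTopology C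
    rw [hdim] at this
    exact absurd this (by simp)
  obtain ⟨e, he⟩ := CurveMult.exists_iso_P1_of_hom k (X := Curv2.normalization C) hN hdimN g hgk hnc
  refine ⟨V0, e.hom ''ᵁ (ν ⁻¹ᵁ V0), (asIso (ν ∣_ V0)).symm ≪≫ e.hom.isoImage _,
    ⟨⟨_, hV0.some_mem⟩⟩, ?_⟩
  rw [Iso.trans_hom, Iso.symm_hom, asIso_inv, Category.assoc, Scheme.Hom.isoImage_hom_ι_assoc, he]
  show _ ≫ _ ≫ ν ≫ _ = _
  rw [← morphismRestrict_ι_assoc, IsIso.inv_hom_id_assoc]

end GrothLib.RatCurve12
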